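import Cfsg.Agent.Lib.Core.Cores
import Cfsg.Agent.Lib.Invol.Basic
import Cfsg.Prelude.Def_CaseTheorems

/-!
Abelian 2-subgroups `H` such that each conjugate of `H` lies in a product of `H` with a subgroup of
odd order normalized by `H`.
-/

set_option autoImplicit false
set_option linter.unusedSectionVars false

namespace Cfsg.Lib.Local.OddSplit

open Subgroup Cfsg

universe u

variable {G : Type u} [Group G] [Finite G]

/-- Each conjugate of `H` lies in `H O` for some subgroup `O` of odd order normalized by `H`. -/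
def Split (H : Subgroup G) : Prop :=
  ∀ g : G, ∃ O : Subgroup G, Odd (Nat.card O) ∧ H ≤ normalizer (O : Set G) ∧
    ∀ h ∈ H, g * h * g⁻¹ ∈ H ⊔ O

variable {H O : Subgroup G}

theorem eq_one_of_mem (hH : IsPGroup 2 H) (hO : Odd (Nat.card O)) {x : G} (hxH : x ∈ H)
    (hxO : x ∈ O) : x = 1 := by
  obtain ⟨k, hk⟩ := hH ⟨x, hxH⟩
  have h1 : orderOf x ∣ 2 ^ k := orderOf_dvd_of_pow_eq_one (congrArg Subtype.val hk)
  have h2 : orderOf x ∣ Nat.card O := O.orderOf_dvd_natCard hxO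
  exact orderOf_eq_one_iff.1 (Nat.eq_one_of_dvd_coprimes
    (Nat.Coprime.pow_left k (Nat.coprime_two_left.2 hO)) h1 h2)

/-- A 2-subgroup of `H O` lies in a conjugate of `H` under `O`. -/
theorem exists_conj (hH : IsPGroup 2 H) (hO : Odd (Nat.card O))
    (hN : H ≤ normalizer (O : Set G)) {P : Subgroup G} (hP : IsPGroup 2 P) (hPK : P ≤ H ⊔ O) :
    ∃ o ∈ O, ∀ x ∈ P, o⁻¹ * x * o ∈ H := by
  haveI : Fact (Nat.Prime 2) := ⟨Nat.prime_two⟩
  set K := H ⊔ O with hK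
  obtain ⟨S, hS⟩ := ((hH.of_equiv (subgroupOfEquivOfLe (le_sup_left : H ≤ K)).symm :
    IsPGroup 2 ↥(H.subgroupOf K))).exists_le_sylow
  have hSH : ∀ s : K, s ∈ (S : Subgroup K) → (s : G) ∈ H := by
    intro s hs
    obtain ⟨h, hh, o, ho, he⟩ := (Core.mem_sup_of_le_normalizer hN).1 s.2
    have hoS : (⟨o, (le_sup_right : O ≤ K) ho⟩ : K) ∈ (S : Subgroup K) := by
      have : (⟨o, (le_sup_right : O ≤ K) ho⟩ : K) = (⟨h, (le_sup_left : H ≤ K) hh⟩ : K)⁻¹ * s :=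
        Subtype.ext (by show o = h⁻¹ * (s : G); rw [← he, inv_mul_cancel_left])
      rw [this]
      exact mul_mem (inv_mem (hS hh)) hs
    have ho1 : o = 1 := eq_one_of_mem (S.2.map K.subtype) hO
      ⟨⟨o, (le_sup_right : O ≤ K) ho⟩, hoS, rfl⟩ ho
    rw [← he, ho1, mul_one]; exact hh
  obtain ⟨T, hT⟩ := ((hP.of_equiv (subgroupOfEquivOfLe hPK).symm :
    IsPGroup 2 ↥(P.subgroupOf K))).exists_le_sylow
  obtain ⟨k, hk⟩ := MulAction.exists_smul_eq K S T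
  obtain ⟨h, hh, o, ho, he⟩ := (Core.mem_sup_of_le_normalizer hN).1 k.2
  refine ⟨h * o * h⁻¹, (mem_normalizer_iff.1 (hN hh) o).1 ho, fun x hx => ?_⟩
  have hxT : (⟨x, hPK hx⟩ : K) ∈ (T : Subgroup K) := hT hx
  rw [← hk, Sylow.coe_subgroup_smul, mem_pointwise_smul_iff_inv_smul_mem] at hxT
  have h1 : (k : G)⁻¹ * x * k ∈ H := by simpa [MulAut.smul_def, mul_assoc] using hSH _ hxT
  have h2 := H.mul_mem (H.mul_mem hh h1) (H.inv_mem hh)
  rw [← he] at h2
  convert h2 using 1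
  group

/-- A 2-element of `H O` is conjugate under `O` to an element of `H`. -/
theorem exists_conj_elem (hH : IsPGroup 2 H) (hO : Odd (Nat.card O))
    (hN : H ≤ normalizer (O : Set G)) {y : G} (hy : ∃ k : ℕ, orderOf y = 2 ^ k)
    (hyK : y ∈ H ⊔ O) :
    ∃ o ∈ O, ∃ h ∈ H, y = o * h * o⁻¹ ∧ y * h⁻¹ ∈ O := by
  obtain ⟨k, hk⟩ := hy
  obtain ⟨o, ho, hmem⟩ := exists_conj hH hO hN
    (P := zpowers y) (IsPGroup.of_card ((Nat.card_zpowers y).trans hk)) (zpowers_le.2 hyK)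
  refine ⟨o, ho, _, hmem y (mem_zpowers y), by group, ?_⟩
  set h := o⁻¹ * y * o with hh
  have hhH : h ∈ H := hmem y (mem_zpowers y)
  have : y * h⁻¹ = o * (h * o⁻¹ * h⁻¹) := by rw [hh]; group
  rw [this]
  exact O.mul_mem ho ((mem_normalizer_iff.1 (hN hhH) _).1 (O.inv_mem ho))

/-- Elements of odd order in `H O` lie in `O`. -/
theorem mem_of_odd (hH : IsPGroup 2 H) (hO : Odd (Nat.card O))
    (hN : H ≤ normalizer (O : Set G)) {z : G} (hz : Odd (orderOf z)) (hzK : z ∈ H ⊔ O) :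
    z ∈ O := by
  obtain ⟨h, hh, o, ho, rfl⟩ := (Core.mem_sup_of_le_normalizer hN).1 hzK
  have key : ∀ n : ℕ, (h ^ n)⁻¹ * (h * o) ^ n ∈ O := by
    intro n
    induction n with
    | zero => simp
    | succ n ih =>
      have e : (h ^ (n + 1))⁻¹ * (h * o) ^ (n + 1) =
          h⁻¹ * ((h ^ n)⁻¹ * (h * o) ^ n) * h * o := by
        rw [pow_succ h, pow_succ (h * o)]; group
      rw [e]
      exact O.mul_mem ((mem_normalizer_iff''.1 (hN hh) _).1 ih) ho
  have h1 := key (orderOf (h * o))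
  rw [pow_orderOf_eq_one, mul_one, inv_mem_iff] at h1
  have h2 : h ^ orderOf (h * o) = 1 := eq_one_of_mem hH hO (H.pow_mem hh _) h1
  have h3 : h = 1 := by
    obtain ⟨k, hk⟩ := hH ⟨h, hh⟩
    exact orderOf_eq_one_iff.1 (Nat.eq_one_of_dvd_coprimes
      (Nat.Coprime.pow_left k (Nat.coprime_two_left.2 hz))
      (orderOf_dvd_of_pow_eq_one (congrArg Subtype.val hk)) (orderOf_dvd_of_pow_eq_one h2))
  rw [h3, one_mul]; exact ho

theorem exists_pow_orderOf (hH : IsPGroup 2 H) {h : G} (hh : h ∈ H) :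
    ∃ k : ℕ, orderOf h = 2 ^ k := by
  obtain ⟨k, hk⟩ := hH ⟨h, hh⟩
  obtain ⟨j, -, hj⟩ := (Nat.dvd_prime_pow Nat.prime_two).1
    (orderOf_dvd_of_pow_eq_one (congrArg Subtype.val hk))
  exact ⟨j, hj⟩

variable (hs : Split H) (hH : IsPGroup 2 H)
include hs hH

/-- A conjugate of an element of `H` is conjugate under some odd subgroup to one of `H`. -/
theorem exists_conj_of_conj (g : G) : ∃ O : Subgroup G, Odd (Nat.card O) ∧
    H ≤ normalizer (O : Set G) ∧ (∀ h ∈ H, g * h * g⁻¹ ∈ H ⊔ O) ∧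
    ∀ h₀ ∈ H, ∃ o ∈ O, ∃ h ∈ H, g * h₀ * g⁻¹ = o * h * o⁻¹ ∧ g * h₀ * g⁻¹ * h⁻¹ ∈ O := by
  obtain ⟨O, hO, hN, hmem⟩ := hs g
  refine ⟨O, hO, hN, hmem, fun h₀ h0 => exists_conj_elem hH hO hN ?_ (hmem h₀ h0)⟩
  obtain ⟨k, hk⟩ := exists_pow_orderOf hH h0
  exact ⟨k, by rw [← hk]; exact (MulEquiv.orderOf_eq (MulAut.conj g) h₀)⟩

/-- `H` is strongly closed in every 2-subgroup containing it. -/
theorem mem_of_conj_mem {S : Subgroup G} (hS : IsPGroup 2 S) (hHS : H ≤ S) {h g : G} (hh : h ∈ H)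
    (hg : g * h * g⁻¹ ∈ S) : g * h * g⁻¹ ∈ H := by
  obtain ⟨O, hO, hN, hmem, -⟩ := exists_conj_of_conj hs hH g
  obtain ⟨h', hh', o, ho, he⟩ := (Core.mem_sup_of_le_normalizer hN).1 (hmem h hh)
  have hoS : o ∈ S := by
    have : o = h'⁻¹ * (g * h * g⁻¹) := by rw [← he]; group
    rw [this]
    exact S.mul_mem (S.inv_mem (hHS hh')) hg
  rw [← he, eq_one_of_mem hS hO hoS ho, mul_one]
  exact hh'

omit hs hH in
theorem mem_normalizer_of_conj {g : G} (h : ∀ x ∈ H, g * x * g⁻¹ ∈ H) :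
    g ∈ normalizer (H : Set G) := by
  rw [Core.mem_normalizer_iff_map_conj]
  refine eq_of_le_of_card_ge ?_ (le_of_eq (card_map_of_injective (MulAut.conj g).injective).symm)
  rintro _ ⟨x, hx, rfl⟩
  exact h x hx

/-- Every 2-subgroup containing `H` normalizes it. -/
theorem le_normalizer_of_le {S : Subgroup G} (hS : IsPGroup 2 S) (hHS : H ≤ S) :
    S ≤ normalizer (H : Set G) := fun s hs' => mem_normalizer_of_conj fun _ hx =>
  mem_of_conj_mem hs hH hS hHS hx (S.mul_mem (S.mul_mem hs' (hHS hx)) (S.inv_mem hs'))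

/-- The normalizer controls fusion in an abelian `H`. -/
theorem exists_normalizer_conj (hab : ∀ x ∈ H, ∀ y ∈ H, x * y = y * x) {h h' : G} (hh : h ∈ H)
    (hh' : h' ∈ H) (hc : IsConj h h') : ∃ n ∈ normalizer (H : Set G), n * h * n⁻¹ = h' := by
  haveI : Fact (Nat.Prime 2) := ⟨Nat.prime_two⟩
  obtain ⟨g, hg⟩ := isConj_iff.1 hc
  set C := centralizer ({h'} : Set G) with hC
  set Hg := H.map (MulAut.conj g).toMonoidHom with hHg
  have h1 : H ≤ C := fun x hx => mem_centralizer_singleton_iff.2 (hab x hx h' hh')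
  have h2 : Hg ≤ C := by
    rintro _ ⟨x, hx, rfl⟩
    refine mem_centralizer_singleton_iff.2 ?_
    show g * x * g⁻¹ * h' = h' * (g * x * g⁻¹)
    rw [← hg, show g * x * g⁻¹ * (g * h * g⁻¹) = g * (x * h) * g⁻¹ by group,
      show g * h * g⁻¹ * (g * x * g⁻¹) = g * (h * x) * g⁻¹ by group, hab x hx h hh]
  obtain ⟨S, hS⟩ := ((hH.of_equiv (subgroupOfEquivOfLe h1).symm :
    IsPGroup 2 ↥(H.subgroupOf C))).exists_le_sylow
  obtain ⟨T, hT⟩ := (((hH.map _).of_equiv (subgroupOfEquivOfLe h2).symm :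
    IsPGroup 2 ↥(Hg.subgroupOf C))).exists_le_sylow
  obtain ⟨c, hc'⟩ := MulAction.exists_smul_eq C S T
  refine ⟨(c : G)⁻¹ * g, mem_normalizer_of_conj fun x hx => ?_, ?_⟩
  · have hgx : g * x * g⁻¹ ∈ Hg := ⟨x, hx, rfl⟩
    have hxT : (⟨_, h2 hgx⟩ : C) ∈ (T : Subgroup C) := hT hgx
    rw [← hc', Sylow.coe_subgroup_smul, mem_pointwise_smul_iff_inv_smul_mem] at hxT
    have h3 : (c : G)⁻¹ * g * x * ((c : G)⁻¹ * g)⁻¹ ∈ (S : Subgroup C).map C.subtype :=
      ⟨_, hxT, by simp [MulAut.smul_def, mul_assoc]⟩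
    exact mem_of_conj_mem hs hH (S.2.map C.subtype)
      (fun y hy => ⟨⟨y, h1 hy⟩, hS hy, rfl⟩) hx h3
  · have hcc : (c : G) * h' = h' * c := mem_centralizer_singleton_iff.1 c.2
    rw [show (c : G)⁻¹ * g * h * ((c : G)⁻¹ * g)⁻¹ = (c : G)⁻¹ * (g * h * g⁻¹) * c by group, hg,
      mul_assoc, ← hcc, inv_mul_cancel_left]

/-- Passing to a subgroup. -/
theorem split_subgroupOf (L : Subgroup G)
    (hL : ∀ o h, h ∈ H → o * h * o⁻¹ ∈ L → h ∈ L) : Split (H.subgroupOf L) := by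
  intro g
  obtain ⟨O, hO, hN, -, hconj⟩ := exists_conj_of_conj hs hH (g : G)
  have hNL : H.subgroupOf L ≤ normalizer ((O.subgroupOf L : Subgroup L) : Set L) := by
    rw [le_normalizer_iff]
    intro x hx y hy
    exact (mem_normalizer_iff.1 (hN hx) _).1 hy
  refine ⟨O.subgroupOf L, ?_, hNL, fun h₀ h0 => ?_⟩
  · have h1 : Nat.card (O.subgroupOf L) ∣ Nat.card O := by
      rw [← Core.card_map_subtype, subgroupOf_map_subtype]
      exact card_dvd_of_le inf_le_left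
    exact hO.of_dvd_nat h1
  obtain ⟨o, -, h, hh, he, hO'⟩ := hconj (h₀ : G) h0
  have hhL : h ∈ L := hL o h hh (he ▸ L.mul_mem (L.mul_mem g.2 h₀.2) (L.inv_mem g.2))
  have hm : g * h₀ * g⁻¹ * (⟨h, hhL⟩ : L)⁻¹ ∈ O.subgroupOf L := hO'
  have := mul_mem (mem_sup_right (S := H.subgroupOf L) hm)
    (mem_sup_left (T := O.subgroupOf L) (show (⟨h, hhL⟩ : L) ∈ H.subgroupOf L from hh))
  rwa [inv_mul_cancel_right] at this

/-- Passing to a quotient. -/
theorem split_map {G' : Type u} [Group G'] (f : G →* G') (hf : Function.Surjective f) :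
    Split (H.map f) := by
  intro g'
  obtain ⟨g, rfl⟩ := hf g'
  obtain ⟨O, hO, hN, hmem⟩ := hs g
  refine ⟨O.map f, hO.of_dvd_nat (Core.card_map_dvd f O),
    (map_mono hN).trans (le_normalizer_map f), ?_⟩
  rintro _ ⟨h, hh, rfl⟩
  rw [← Subgroup.map_sup]
  exact ⟨_, hmem h hh, by simp⟩

end Cfsg.Lib.Local.OddSplit
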