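import Cfsg.Agent.Lib.Char.Formulas

/-!
Values of irreducible characters at involutions.
-/

set_option autoImplicit false
set_option linter.unusedSectionVars false

namespace Cfsg.Lib.Local.OddSplit

open Cfsg
open scoped ComplexConjugate

universe u

variable {G : Type u} [Group G]

/-- An irreducible character is positive definite. -/
theorem re_sum_nonneg [Fintype G] {χ : G → ℂ} (hχ : IsIrrCharacter G χ) {ι : Type} [Fintype ι]
    (c : ι → ℝ) (g : ι → G) :
    0 ≤ (∑ i, ∑ j, (c i : ℂ) * (c j : ℂ) * χ ((g i)⁻¹ * g j)).re := by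
  obtain ⟨f, hf, hf1⟩ := hχ.exists_degree
  set F : G → ℂ := fun z => ∑ j, (c j : ℂ) * χ (z⁻¹ * g j) with hF
  have key : ∀ i j, ∑ z, χ ((g i)⁻¹ * z) * χ (z⁻¹ * g j) =
      (Nat.card G : ℂ) * χ ((g i)⁻¹ * g j) / χ 1 := fun i j => by
    rw [← Lib.Char.sum_char_mul_char_inv hχ]
    refine Fintype.sum_equiv (Equiv.mulLeft (g i)⁻¹) _ _ fun z => ?_
    simp [mul_assoc]
  have h : (Nat.card G : ℂ) / χ 1 * ∑ i, ∑ j, (c i : ℂ) * (c j : ℂ) * χ ((g i)⁻¹ * g j) =
      ∑ z, conj (F z) * F z := by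
    calc _ = ∑ i, ∑ j, (c i : ℂ) * (c j : ℂ) * ∑ z, χ ((g i)⁻¹ * z) * χ (z⁻¹ * g j) := by
          simp only [key, Finset.mul_sum]
          exact Finset.sum_congr rfl fun i _ => Finset.sum_congr rfl fun j _ => by ring
      _ = ∑ i, ∑ z, ∑ j, (c i : ℂ) * χ ((g i)⁻¹ * z) * ((c j : ℂ) * χ (z⁻¹ * g j)) := by
          simp only [Finset.mul_sum]
          refine Finset.sum_congr rfl fun i _ => ?_
          rw [Finset.sum_comm]
          exact Finset.sum_congr rfl fun z _ => Finset.sum_congr rfl fun j _ => by ring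
      _ = ∑ z, ∑ i, ∑ j, (c i : ℂ) * χ ((g i)⁻¹ * z) * ((c j : ℂ) * χ (z⁻¹ * g j)) :=
          Finset.sum_comm
      _ = _ := by
          refine Finset.sum_congr rfl fun z _ => ?_
          simp only [hF, map_sum, Finset.sum_mul, Finset.mul_sum, map_mul, Complex.conj_ofReal]
          rw [Finset.sum_comm]
          refine Finset.sum_congr rfl fun i _ => Finset.sum_congr rfl fun j _ => ?_
          rw [← hχ.isCharacter.apply_inv, mul_inv_rev, inv_inv]
  have h0 : 0 ≤ (∑ z, conj (F z) * F z).re := by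
    rw [Complex.re_sum]
    refine Finset.sum_nonneg fun z _ => ?_
    simp only [Complex.mul_re, Complex.conj_re, Complex.conj_im]
    nlinarith [mul_self_nonneg (F z).re, mul_self_nonneg (F z).im]
  rw [← h, hf1] at h0
  have e : ((Nat.card G : ℂ) / (f : ℂ)) = (((Nat.card G : ℝ) / f : ℝ) : ℂ) := by push_cast; rfl
  rw [e, Complex.re_ofReal_mul] at h0
  have hpos : (0 : ℝ) < (Nat.card G : ℝ) / f :=
    div_pos (by exact_mod_cast Nat.card_pos) (by exact_mod_cast hf)
  exact (mul_nonneg_iff_of_pos_left hpos).1 h0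

/-- The value at a product of two conjugate involutions. -/
theorem re_mul_ge [Fintype G] {χ : G → ℂ} (hχ : IsIrrCharacter G χ) {a x : G} (ha : a * a = 1)
    (hx : x * x = 1) (hax : χ x = χ a) :
    2 * (χ a).re - (χ 1).re ≤ (χ (a * x)).re := by
  have hci : ∀ t : G, t * t = 1 → t⁻¹ = t := fun t ht => inv_eq_of_mul_eq_one_left ht
  have ha' := hci a ha
  have hx' := hci x hx
  have e1 : χ (x * a) = χ (a * x) := by
    rw [← hχ.isCharacter.conj_invariant (x * a) a]
    congr 1
    rw [ha', mul_assoc, mul_assoc, ha, mul_one]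
  have e2 : χ (x * (a * x)) = χ a := by
    rw [← mul_assoc]
    conv_lhs => rw [show x * a * x = x * a * x⁻¹ by rw [hx']]
    exact hχ.isCharacter.conj_invariant a x
  have h := re_sum_nonneg hχ ![1, -1, -1, 1] ![1, a, x, a * x]
  simp [Fin.sum_univ_four] at h
  simp only [ha', hx', ← mul_assoc, ha, hx, one_mul] at h
  simp only [mul_assoc, ha, hx, mul_one, e1, e2, hax] at h
  linarith

/-- The values at involutions are integers. -/
theorem exists_int_value [Finite G] {χ : G → ℂ} (hχ : IsCharacter G χ) {a : G} (ha : a * a = 1) :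
    ∃ z : ℤ, χ a = z := by
  classical
  obtain ⟨n, ρ, rfl⟩ := hχ
  obtain ⟨μ, hμ, h1, -⟩ := Lib.Char.character_eq_sum_roots ρ a
  have h2 : ∀ i, μ i = 1 ∨ μ i = -1 := fun i => by
    have hd : orderOf a ∣ 2 := orderOf_dvd_of_pow_eq_one (by rw [pow_two, ha])
    obtain ⟨k, hk⟩ := hd
    have : μ i ^ 2 = 1 := by rw [hk, pow_mul, hμ i, one_pow]
    exact sq_eq_one_iff.1 this
  refine ⟨∑ i, if μ i = 1 then 1 else -1, ?_⟩
  rw [h1]
  push_cast
  refine Finset.sum_congr rfl fun i _ => ?_
  rcases h2 i with h | h <;> norm_num [h]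

/-- An irreducible character which is not principal has a proper kernel. -/
theorem charKer_ne_top [Finite G] {χ : G → ℂ} (hχ : IsIrrCharacter G χ) (hne : χ ≠ fun _ => 1) :
    Lib.Char.charKer hχ.isCharacter ≠ ⊤ := by
  intro h
  haveI := Fintype.ofFinite G
  have hc : ∀ g, χ g = χ 1 := fun g =>
    (Lib.Char.mem_charKer _).1 (h ▸ Subgroup.mem_top g)
  have h0 := Lib.Char.classInner_irr_ne hχ Lib.Char.isIrrCharacter_one hne
  simp only [classInner, map_one, mul_one] at h0
  rw [Finset.sum_congr rfl fun g _ => hc g, Finset.sum_const, Finset.card_univ, nsmul_eq_mul,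
    ← Nat.card_eq_fintype_card, ← mul_assoc, inv_mul_cancel₀ Lib.Char.card_cast_ne_zero,
    one_mul] at h0
  exact hχ.apply_one_ne_zero h0

end Cfsg.Lib.Local.OddSplit
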