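import Cfsg.Agent.Lib.Local.OddSplit.Basic
import Cfsg.Agent.Lib.Local.OddSplit.Chars
import Cfsg.Agent.Lib.Block.SubsectionApps
import Cfsg.Agent.Lib.Block.StarVanish
import Cfsg.Agent.Lib.Block.RegInt

/-!
The counting argument with the principal 2-block.
-/

set_option autoImplicit false
set_option linter.unusedSectionVars false

namespace Cfsg.Lib.Local.OddSplit

open Subgroup Cfsg

universe u

variable {G : Type u} [Group G] [Finite G] {H : Subgroup G}

section Involutions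

variable (hs : Split H) (hH : IsPGroup 2 H) (hab : ∀ x ∈ H, ∀ y ∈ H, x * y = y * x)

/-- The elements of `H` of order at most 2. -/
def omega (H : Subgroup G) (hab : ∀ x ∈ H, ∀ y ∈ H, x * y = y * x) : Subgroup G where
  carrier := {h | h ∈ H ∧ h * h = 1}
  one_mem' := ⟨H.one_mem, one_mul 1⟩
  mul_mem' {x y} hx hy := ⟨H.mul_mem hx.1 hy.1, by
    rw [mul_assoc, ← mul_assoc y x y, ← hab x hx.1 y hy.1, mul_assoc x y y, hy.2, mul_one, hx.2]⟩
  inv_mem' {x} hx := ⟨H.inv_mem hx.1, by rw [← mul_inv_rev, hx.2, inv_one]⟩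

theorem mem_omega {h : G} : h ∈ omega H hab ↔ h ∈ H ∧ h * h = 1 := Iff.rfl

theorem inv_of_sq {h : G} (h2 : h * h = 1) : h⁻¹ = h := inv_eq_of_mul_eq_one_left h2

theorem conj_mem_omega {n h : G} (hn : n ∈ normalizer (H : Set G)) (hh : h ∈ omega H hab) :
    n * h * n⁻¹ ∈ omega H hab :=
  ⟨(mem_normalizer_iff.1 hn h).1 hh.1, by
    rw [show n * h * n⁻¹ * (n * h * n⁻¹) = n * (h * h) * n⁻¹ by group, hh.2, mul_one,
      mul_inv_cancel]⟩

include hs hH in
/-- The element of `H` attached to a conjugate of an involution of `H`. -/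
theorem exists_type {b : G} (hb : b ∈ omega H hab) (g : G) :
    ∃ h ∈ omega H hab, IsConj b h ∧ Odd (orderOf (g * b * g⁻¹ * h)) ∧
      ∀ h' ∈ omega H hab, Odd (orderOf (g * b * g⁻¹ * h')) → h' = h := by
  obtain ⟨O, hO, hN, hmem, hconj⟩ := exists_conj_of_conj hs hH g
  obtain ⟨o, ho, h, hh, he, hOh⟩ := hconj b hb.1
  have hbh : IsConj b h := isConj_iff.2 ⟨o⁻¹ * g, by
    rw [show o⁻¹ * g * b * (o⁻¹ * g)⁻¹ = o⁻¹ * (g * b * g⁻¹) * o by group, he]; group⟩
  have h2 : h * h = 1 := by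
    obtain ⟨c, rfl⟩ := isConj_iff.1 hbh
    rw [show c * b * c⁻¹ * (c * b * c⁻¹) = c * (b * b) * c⁻¹ by group, hb.2, mul_one,
      mul_inv_cancel]
  rw [inv_of_sq h2] at hOh
  refine ⟨h, ⟨hh, h2⟩, hbh, hO.of_dvd_nat (O.orderOf_dvd_natCard hOh), fun h' hh' hodd => ?_⟩
  have h1 := mem_of_odd hH hO hN hodd (mul_mem (hmem b hb.1) (mem_sup_left hh'.1))
  have h3 := O.mul_mem (O.inv_mem hOh) h1
  rw [show (g * b * g⁻¹ * h)⁻¹ * (g * b * g⁻¹ * h') = h⁻¹ * h' by group] at h3
  exact (inv_mul_eq_one.1 (eq_one_of_mem hH hO (H.mul_mem (H.inv_mem hh) hh'.1) h3)).symm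

variable [Fintype G] [DecidableEq G]

open Classical in
/-- The members of `omega H` conjugate to `b`. -/
noncomputable def cls (b : G) : Finset G :=
  Finset.univ.filter fun h => h ∈ omega H hab ∧ ConjClasses.mk h = ConjClasses.mk b

theorem mem_cls {b h : G} : h ∈ cls hab b ↔ h ∈ omega H hab ∧ IsConj h b := by
  simp [cls, ConjClasses.mk_eq_mk_iff_isConj]

open Classical in
/-- The conjugators of a given type. -/
noncomputable def fib (b h : G) : Finset G :=
  Finset.univ.filter fun g => Odd (orderOf (g * b * g⁻¹ * h))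

theorem mem_fib {b h g : G} : g ∈ fib b h ↔ Odd (orderOf (g * b * g⁻¹ * h)) := by simp [fib]

include hs hH hab in
/-- All fibres over one class have the same size. -/
theorem sum_eq_sum_fib {b : G} (hb : b ∈ omega H hab) :
    ∃ m : ℕ, m ≠ 0 ∧ m * (cls hab b).card = Nat.card G ∧
      (∀ h ∈ cls hab b, (fib b h).card = m) ∧
      ∀ φ : G → ℂ, ∑ g, φ g = ∑ h ∈ cls hab b, ∑ g ∈ fib b h, φ g := by
  classical
  choose τ hτA hτc hτodd hτu using exists_type hs hH hab hb
  have hτcls : ∀ g, τ g ∈ cls hab b := fun g => (mem_cls hab).2 ⟨hτA g, (hτc g).symm⟩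
  have hfib : ∀ h ∈ cls hab b, fib b h = Finset.univ.filter fun g => τ g = h := by
    intro h hh
    ext g
    simp only [mem_fib, Finset.mem_filter, Finset.mem_univ, true_and]
    exact ⟨fun hodd => (hτu g h ((mem_cls hab).1 hh).1 hodd).symm, fun e => e ▸ hτodd g⟩
  have hbcls : b ∈ cls hab b := (mem_cls hab).2 ⟨hb, IsConj.refl b⟩
  have hcard : ∀ h ∈ cls hab b, (fib b h).card = (fib b b).card := by
    intro h hh
    obtain ⟨hhA, hhb⟩ := (mem_cls hab).1 hh
    obtain ⟨n, -, hn⟩ := exists_normalizer_conj hs hH hab hb.1 hhA.1 hhb.symm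
    refine (Finset.card_equiv (Equiv.mulLeft n) fun g => ?_).symm
    simp only [mem_fib, Equiv.coe_mulLeft]
    rw [← hn, show n * g * b * (n * g)⁻¹ * (n * b * n⁻¹) = n * (g * b * g⁻¹ * b) * n⁻¹ by group]
    exact iff_of_eq (congrArg Odd (MulEquiv.orderOf_eq (MulAut.conj n) _).symm)
  refine ⟨(fib b b).card, Finset.card_ne_zero.2 ⟨1, ?_⟩, ?_, hcard, fun φ => ?_⟩
  · rw [mem_fib, one_mul, inv_one, mul_one, hb.2, orderOf_one]
    exact odd_one
  · rw [Nat.card_eq_fintype_card, ← Finset.card_univ,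
      Finset.card_eq_sum_card_fiberwise (s := Finset.univ) (f := τ) (t := cls hab b) (fun g _ => hτcls g),
      Finset.sum_congr rfl (g := fun _ => (fib b b).card) fun h hh => by rw [← hfib h hh, hcard h hh],
      Finset.sum_const, smul_eq_mul, mul_comm]
  · rw [← Finset.sum_fiberwise_of_maps_to (g := τ) (t := cls hab b) (fun g _ => hτcls g) φ]
    exact Finset.sum_congr rfl fun h hh => by rw [hfib h hh]

open Classical in
include hH in
/-- Some class of involutions meets `omega H` an odd number of times. -/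
theorem exists_odd_cls (hne : H ≠ ⊥) :
    ∃ a ∈ omega H hab, a ≠ 1 ∧ Odd (cls hab a).card := by
  haveI : Fact (Nat.Prime 2) := ⟨Nat.prime_two⟩
  haveI : Nontrivial H := (nontrivial_iff_ne_bot H).2 hne
  have hcard : 2 ∣ Nat.card H := by
    obtain ⟨n, hn, h⟩ := IsPGroup.nontrivial_iff_card hH |>.1 inferInstance
    exact h ▸ dvd_pow_self 2 hn.ne'
  obtain ⟨z, hz⟩ := exists_prime_orderOf_dvd_card' 2 hcard
  set A : Finset G := Finset.univ.filter fun h => h ∈ omega H hab with hA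
  have h1A : (1 : G) ∈ A := by simp [hA, one_mem]
  have hzA : (z : G) ∈ omega H hab := by
    refine ⟨z.2, ?_⟩
    rw [← Subgroup.coe_mul, Invol.inv_mul_self hz, Subgroup.coe_one]
  have hAeven : Even A.card := by
    have h1 : A.card = Nat.card (omega H hab) := by
      rw [Nat.card_eq_fintype_card]
      exact (Fintype.card_of_subtype A (fun h => by simp [hA])).symm
    rw [h1, even_iff_two_dvd]
    have hd : orderOf (z : G) = 2 := by rw [Subgroup.orderOf_coe, hz]
    exact hd ▸ (omega H hab).orderOf_dvd_natCard hzA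
  have hodd : Odd (A.erase 1).card := by
    rw [Finset.card_erase_of_mem h1A]
    obtain ⟨j, hj⟩ := hAeven
    have : 0 < A.card := Finset.card_pos.2 ⟨1, h1A⟩
    exact ⟨j - 1, by omega⟩
  rw [Finset.card_eq_sum_card_image (f := ConjClasses.mk) (A.erase 1)] at hodd
  by_contra hall
  push Not at hall
  refine Nat.not_even_iff_odd.2 hodd (Finset.even_sum _ fun c hc => ?_)
  obtain ⟨a, ha, rfl⟩ := Finset.mem_image.1 hc
  obtain ⟨ha1, haA⟩ := Finset.mem_erase.1 ha
  have haO : a ∈ omega H hab := by simpa [hA] using haA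
  have e : (A.erase 1).filter (fun h => ConjClasses.mk h = ConjClasses.mk a) = cls hab a := by
    ext h
    simp only [Finset.mem_filter, Finset.mem_erase, mem_cls, hA, Finset.mem_univ, true_and,
      ConjClasses.mk_eq_mk_iff_isConj]
    refine ⟨fun h => ⟨h.1.2, h.2⟩, fun h => ⟨⟨fun e => ha1 ?_, h.1⟩, h.2⟩⟩
    exact isConj_one_right.1 (e ▸ h.2)
  rw [e]
  exact Nat.not_odd_iff_even.1 (hall a haO ha1)

end Involutions

section Blocks

variable (hs : Split H) (hH : IsPGroup 2 H) (hab : ∀ x ∈ H, ∀ y ∈ H, x * y = y * x)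
  [Fintype G] [DecidableEq G]

/-- The value on a coset: `χ (a x)` depends only on the type of `x`. -/
def ValueHyp (H : Subgroup G) (hab : ∀ x ∈ H, ∀ y ∈ H, x * y = y * x)
    (B : Set (IrrCharacter G)) : Prop :=
  ∀ χ ∈ B, ∀ g, ∀ a ∈ omega H hab, ∀ b ∈ omega H hab, ∀ h ∈ omega H hab, a ≠ h →
    Odd (orderOf (g * b * g⁻¹ * h)) → (χ : G → ℂ) (a * (g * b * g⁻¹)) = (χ : G → ℂ) (a * h)

open Classical in
include hs hH in
/-- The identity coming from the class sums. -/
theorem class_identity {B : Set (IrrCharacter G)} (hval : ValueHyp H hab B)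
    {χ : IrrCharacter G} (hχ : χ ∈ B) {a : G} (ha : a ∈ omega H hab) :
    ∃ m : ℕ, m ≠ 0 ∧ (fib a a).card = m ∧
      ((χ : G → ℂ) 1 - (χ : G → ℂ) a) *
          ∑ h ∈ Finset.univ.filter (fun h => h ∈ omega H hab), (χ : G → ℂ) h =
        (χ : G → ℂ) 1 * ((χ : G → ℂ) 1 -
          (∑ g ∈ fib a a, (χ : G → ℂ) (a * (g * a * g⁻¹))) / m) := by
  set f : ℂ := (χ : G → ℂ) 1 with hf
  set v : ℂ := (χ : G → ℂ) a with hv
  have hf0 : f ≠ 0 := χ.2.apply_one_ne_zero
  set A : Finset G := Finset.univ.filter fun h => h ∈ omega H hab with hA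
  set Ψ : G → ℂ := fun h => f * (χ : G → ℂ) (a * h) - v * (χ : G → ℂ) h with hΨ
  have hconst : ∀ b, ∑ h ∈ cls hab b, (χ : G → ℂ) h = (cls hab b).card * (χ : G → ℂ) b := by
    intro b
    rw [Finset.sum_congr rfl (g := fun _ => (χ : G → ℂ) b) fun h hh => ?_, Finset.sum_const,
      nsmul_eq_mul]
    obtain ⟨c, hc⟩ := isConj_iff.1 ((mem_cls hab).1 hh).2
    rw [← hc, χ.2.isCharacter.conj_invariant]
  have haA : a ∈ cls hab a := (mem_cls hab).2 ⟨ha, IsConj.refl a⟩
  obtain ⟨m, hm0, hmk, hmc, hms⟩ := sum_eq_sum_fib hs hH hab ha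
  refine ⟨m, hm0, hmc a haA, ?_⟩
  set T : ℂ := ∑ g ∈ fib a a, (χ : G → ℂ) (a * (g * a * g⁻¹)) with hT
  have hother : ∀ b ∈ omega H hab, ¬ IsConj a b → ∑ h ∈ cls hab b, Ψ h = 0 := by
    intro b hb hne
    obtain ⟨m', hm', hmk', hmc', hms'⟩ := sum_eq_sum_fib hs hH hab hb
    have h1 := Lib.Char.sum_char_mul_conj χ.2 a b
    rw [hms', Finset.sum_congr (s₁ := cls hab b) rfl (g := fun h => (m' : ℂ) * (χ : G → ℂ) (a * h)) fun h hh => ?_,
      ← Finset.mul_sum, eq_div_iff hf0, ← hmk'] at h1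
    · simp only [hΨ, Finset.sum_sub_distrib, ← Finset.mul_sum, hconst b]
      refine mul_left_cancel₀ (Nat.cast_ne_zero.2 hm' : (m' : ℂ) ≠ 0) ?_
      push_cast at h1
      linear_combination h1
    · obtain ⟨hhA, hhb⟩ := (mem_cls hab).1 hh
      rw [Finset.sum_congr rfl (g := fun _ => (χ : G → ℂ) (a * h)) fun g hg =>
        hval χ hχ g a ha b hb h hhA (fun e => hne (e ▸ hhb)) (mem_fib.1 hg), Finset.sum_const,
        hmc' h hh, nsmul_eq_mul]
  have hmain : ∑ h ∈ cls hab a, Ψ h = f * f - f * (T / m) := by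
    have h1 := Lib.Char.sum_char_mul_conj χ.2 a a
    rw [hms, ← Finset.add_sum_erase _ _ haA,
      Finset.sum_congr (s₁ := (cls hab a).erase a) rfl (g := fun h => (m : ℂ) * (χ : G → ℂ) (a * h)) fun h hh => ?_,
      ← Finset.mul_sum, eq_div_iff hf0, ← hmk] at h1
    · have h2 : ∑ h ∈ cls hab a, (χ : G → ℂ) (a * h) =
          f + ∑ h ∈ (cls hab a).erase a, (χ : G → ℂ) (a * h) := by
        rw [← Finset.add_sum_erase _ _ haA, ha.2]
      simp only [hΨ, Finset.sum_sub_distrib, ← Finset.mul_sum, hconst a, h2, ← hv]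
      refine mul_left_cancel₀ (Nat.cast_ne_zero.2 hm0 : (m : ℂ) ≠ 0) ?_
      rw [mul_sub (m : ℂ) (f * f), mul_left_comm (m : ℂ) f (T / m),
        mul_div_cancel₀ _ (Nat.cast_ne_zero.2 hm0 : (m : ℂ) ≠ 0)]
      push_cast at h1
      linear_combination h1
    · obtain ⟨hne, hhc⟩ := Finset.mem_erase.1 hh
      rw [Finset.sum_congr rfl (g := fun _ => (χ : G → ℂ) (a * h)) fun g hg =>
        hval χ hχ g a ha a ha h ((mem_cls hab).1 hhc).1 (Ne.symm hne) (mem_fib.1 hg),
        Finset.sum_const, hmc h hhc, nsmul_eq_mul]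
  have htot : ∑ h ∈ A, Ψ h = f * f - f * (T / m) := by
    have hfil : ∀ b, A.filter (fun h => ConjClasses.mk h = ConjClasses.mk b) = cls hab b := by
      intro b
      ext h
      simp [hA, mem_cls, ConjClasses.mk_eq_mk_iff_isConj]
    rw [← Finset.sum_fiberwise_of_maps_to (g := ConjClasses.mk) (t := A.image ConjClasses.mk)
      (fun h hh => Finset.mem_image_of_mem _ hh) Ψ,
      Finset.sum_eq_single (ConjClasses.mk a), hfil, hmain]
    · intro c hc hne
      obtain ⟨b, hb, rfl⟩ := Finset.mem_image.1 hc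
      rw [hfil]
      exact hother b (by simpa [hA] using hb) fun h =>
        hne (ConjClasses.mk_eq_mk_iff_isConj.2 h).symm
    · exact fun h => absurd (Finset.mem_image_of_mem _ (by simp [hA, ha] : a ∈ A)) h
  have hshift : ∑ h ∈ A, (χ : G → ℂ) (a * h) = ∑ h ∈ A, (χ : G → ℂ) h := by
    refine Finset.sum_equiv (Equiv.mulLeft a) (fun h => ?_) fun h _ => rfl
    simp [hA, Subgroup.mul_mem_cancel_left _ ha]
  simp only [hΨ, Finset.sum_sub_distrib, ← Finset.mul_sum, hshift] at htot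
  linear_combination htot

include hs hH in
/-- A class meeting `omega H` an odd number of times meets it only once. -/
theorem card_cls_le_one {M : Ideal AlgInt} (hM : IsPModular 2 M)
    (hval : ValueHyp H hab (principalBlock M G))
    (hker : ∀ χ : IrrCharacter G, (χ : G → ℂ) ≠ (fun _ => 1) →
      ∀ a ∈ omega H hab, a ≠ 1 → (χ : G → ℂ) a ≠ (χ : G → ℂ) 1)
    {a : G} (ha : a ∈ omega H hab) (ha1 : a ≠ 1) (hodd : Odd (cls hab a).card) :
    (cls hab a).card ≤ 1 := by
  classical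
  haveI : Fact (Nat.Prime 2) := ⟨Nat.prime_two⟩
  by_contra hk
  set k := (cls hab a).card with hkdef
  have hk3 : 3 ≤ k := by obtain ⟨j, hj⟩ := hodd; omega
  set B := principalBlock M G with hB
  have hB' : IsPBlock M B := Block.isPBlock_principal
  set A : Finset G := Finset.univ.filter fun h => h ∈ omega H hab with hA
  set N := Nat.card (omega H hab) with hN
  have haord : orderOf a = 2 := Invol.orderOf_eq_two_of ha1 ha.2
  choose d hd0 hd using fun χ : IrrCharacter G => χ.2.exists_degree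
  choose z hz using fun χ : IrrCharacter G => exists_int_value χ.2.isCharacter ha.2
  have hω : ∀ χ : IrrCharacter G, ∃ n : ℕ, ∑ h ∈ A, (χ : G → ℂ) h = (N : ℂ) * n := by
    intro χ
    obtain ⟨n, hn⟩ := (χ.2.isCharacter.comp (omega H hab).subtype).exists_nat_classInner
      (Lib.Char.isCharacter_one (G := omega H hab))
    refine ⟨n, ?_⟩
    rw [← hn, classInner]
    simp only [map_one, mul_one, Subgroup.coe_subtype]
    rw [← mul_assoc, hN, mul_inv_cancel₀ Lib.Char.card_cast_ne_zero, one_mul]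
    exact Finset.sum_subtype A (fun h => by simp [hA]) _
  choose n hn using hω
  -- orthogonality against values with other 2-parts
  have horth : ∀ y : G, ¬ IsConj (Block.pPt 2 y) a →
      ∑ χ ∈ B.toFinset, (χ : G → ℂ) y * (χ : G → ℂ) a = 0 := by
    intro y hy
    rw [← finsum_mem_eq_toFinset_sum]
    refine Block.sum_block_mul_eq_zero hM (Block.vInt_indVec hM hB') ?_
    rwa [Block.pPt_self_of_pelt (u := a) ⟨1, by rw [haord, pow_one]⟩, inv_of_sq ha.2]
  have horth1 : ∀ y : G, Odd (orderOf y) →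
      ∑ χ ∈ B.toFinset, (χ : G → ℂ) y * (χ : G → ℂ) a = 0 := fun y hy => horth y fun hc => by
    rw [(Block.pPt_eq_one_iff y).2 (fun h2 => Nat.not_even_iff_odd.2 hy (even_iff_two_dvd.2 h2))]
      at hc
    exact ha1 (isConj_one_right.1 hc)
  -- the per-character facts
  have hper : ∀ χ ∈ B.toFinset, ∃ m : ℕ, m ≠ 0 ∧ (fib a a).card = m ∧
      (z χ : ℂ) ^ 2 * ((N : ℂ) * n χ) / (d χ : ℂ) = (N : ℂ) * n χ * (z χ : ℂ) -
        (z χ : ℂ) * (d χ : ℂ) + (z χ : ℂ) *
          ((∑ g ∈ fib a a, (χ : G → ℂ) (a * (g * a * g⁻¹))) / m) ∧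
      ((χ : G → ℂ) ≠ (fun _ => 1) → N * n χ ≤ 2 * d χ) := by
    intro χ hχ
    obtain ⟨m, hm0, hmc, hid⟩ := class_identity hs hH hab hval (Set.mem_toFinset.1 hχ) ha
    rw [hn, hd, hz] at hid
    have hdC : (d χ : ℂ) ≠ 0 := Nat.cast_ne_zero.2 (hd0 χ).ne'
    refine ⟨m, hm0, hmc, ?_, fun hne => ?_⟩
    · rw [div_eq_iff hdC]
      linear_combination -(z χ : ℂ) * hid
    set T := ∑ g ∈ fib a a, (χ : G → ℂ) (a * (g * a * g⁻¹)) with hT
    have hTre : (m : ℝ) * (2 * (z χ : ℝ) - d χ) ≤ T.re := by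
      rw [hT, Complex.re_sum, ← hmc, ← nsmul_eq_mul, ← Finset.sum_const]
      refine Finset.sum_le_sum fun g _ => ?_
      have h1 := re_mul_ge χ.2 ha.2 (x := g * a * g⁻¹)
        (by rw [show g * a * g⁻¹ * (g * a * g⁻¹) = g * (a * a) * g⁻¹ by group, ha.2, mul_one,
          mul_inv_cancel]) (χ.2.isCharacter.conj_invariant a g)
      rw [hz, hd] at h1
      simpa using h1
    have hlt : (z χ : ℝ) < d χ := by
      have h1 := χ.2.isCharacter.norm_le a
      rw [hz, hd, Complex.norm_intCast, Complex.natCast_re] at h1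
      refine lt_of_le_of_ne ((le_abs_self _).trans h1) fun e => hker χ hne a ha ha1 ?_
      rw [hz, hd]
      exact_mod_cast e
    have h2 := congrArg Complex.re hid
    simp at h2
    have h3 : (2 * (z χ : ℝ) - d χ) ≤ T.re / m := by
      rw [le_div_iff₀ (by exact_mod_cast Nat.pos_of_ne_zero hm0 : (0 : ℝ) < m), mul_comm]
      exact hTre
    have h4 : ((N : ℝ) * n χ) * ((d χ : ℝ) - z χ) ≤ (2 * d χ) * ((d χ : ℝ) - z χ) := by
      have : (d χ : ℝ) * ((d χ : ℝ) - T.re / m) ≤ (d χ : ℝ) * (2 * ((d χ : ℝ) - z χ)) :=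
        mul_le_mul_of_nonneg_left (by linarith) (Nat.cast_nonneg _)
      linarith
    have h5 := le_of_mul_le_mul_right h4 (sub_pos.2 hlt)
    exact_mod_cast h5
  set m := (fib a a).card with hm
  -- the sum of the identities
  have hsum0 : ∑ χ ∈ B.toFinset, (z χ : ℂ) * (d χ : ℂ) = 0 := by
    rw [← horth1 1 (by rw [orderOf_one]; exact odd_one)]
    exact Finset.sum_congr rfl fun χ _ => by rw [hz, hd]; ring
  have hsumT : ∑ χ ∈ B.toFinset,
      (z χ : ℂ) * ((∑ g ∈ fib a a, (χ : G → ℂ) (a * (g * a * g⁻¹))) / (m : ℂ)) = 0 := by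
    simp only [mul_div_assoc', Finset.mul_sum, ← Finset.sum_div]
    rw [Finset.sum_comm, Finset.sum_eq_zero fun g hg => ?_, zero_div]
    have hy : Odd (orderOf (a * (g * a * g⁻¹))) := by
      have e : MulAut.conj a (g * a * g⁻¹ * a) = a * (g * a * g⁻¹) := by
        rw [MulAut.conj_apply]; group
      rw [← e, MulEquiv.orderOf_eq]
      exact mem_fib.1 hg
    rw [← horth1 _ hy]
    exact Finset.sum_congr rfl fun χ _ => by rw [hz]; ring
  set Q : ℤ := ∑ χ ∈ B.toFinset, z χ ^ 2 with hQ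
  have hkQ : ∑ χ ∈ B.toFinset, (N : ℂ) * n χ * (z χ : ℂ) = (k : ℂ) * Q := by
    calc _ = ∑ h ∈ A, ∑ χ ∈ B.toFinset, (χ : G → ℂ) h * (χ : G → ℂ) a := by
          rw [Finset.sum_comm]
          exact Finset.sum_congr rfl fun χ _ => by rw [← hn, ← hz, Finset.sum_mul]
      _ = ∑ h ∈ A, if IsConj h a then (Q : ℂ) else 0 := by
          refine Finset.sum_congr rfl fun h hh => ?_
          have hhA : h ∈ omega H hab := by simpa [hA] using hh
          split_ifs with hc
          · obtain ⟨c, hc⟩ := isConj_iff.1 hc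
            rw [hQ]
            push_cast
            refine Finset.sum_congr rfl fun χ _ => ?_
            rw [← χ.2.isCharacter.conj_invariant h c, hc, hz, pow_two]
          · refine horth h ?_
            obtain ⟨j, hj⟩ := exists_pow_orderOf hH hhA.1
            rwa [Block.pPt_self_of_pelt ⟨j, hj⟩]
      _ = _ := by
          rw [← Finset.sum_filter, Finset.sum_const, nsmul_eq_mul, hkdef]
          congr 3
          ext h
          simp [hA, mem_cls]
  have hid : ∑ χ ∈ B.toFinset, (z χ : ℂ) ^ 2 * ((N : ℂ) * n χ) / (d χ : ℂ) = (k : ℂ) * Q := by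
    rw [Finset.sum_congr rfl (g := fun χ => (N : ℂ) * n χ * (z χ : ℂ) -
        (z χ : ℂ) * (d χ : ℂ) + (z χ : ℂ) *
          ((∑ g ∈ fib a a, (χ : G → ℂ) (a * (g * a * g⁻¹))) / (m : ℂ))) fun χ hχ => ?_,
      Finset.sum_add_distrib, Finset.sum_sub_distrib, hsum0, hsumT, hkQ, sub_zero, add_zero]
    obtain ⟨m', -, hm', h, -⟩ := hper χ hχ
    rw [h, hm']
  -- divisibility
  have hdvd : (N : ℤ) ∣ Q := by
    have h1 : (k : ℤ) * Q = N * ∑ χ ∈ B.toFinset, (n χ : ℤ) * z χ := by
      have h2 : (((k : ℤ) * Q : ℤ) : ℂ) =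
          (((N : ℤ) * ∑ χ ∈ B.toFinset, (n χ : ℤ) * z χ : ℤ) : ℂ) := by
        push_cast
        rw [← hkQ, Finset.mul_sum]
        exact Finset.sum_congr rfl fun χ _ => by ring
      exact_mod_cast h2
    refine Int.dvd_of_dvd_mul_right_of_gcd_one (b := k) ⟨_, h1⟩ ?_
    obtain ⟨j, hj⟩ := IsPGroup.iff_card.1 (hH.to_le fun x (hx : x ∈ omega H hab) => hx.1)
    rw [Int.gcd_natCast_natCast, hN, hj]
    exact Nat.Coprime.pow_left j (Nat.coprime_two_left.2 hodd)
  have htriv : Block.trivChar G ∈ B.toFinset :=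
    Set.mem_toFinset.2 (Block.trivChar_mem_principal hM)
  have hzt : z (Block.trivChar G) = 1 := by
    have := hz (Block.trivChar G); simp only [Block.trivChar_coe] at this; exact_mod_cast this.symm
  have hdt : d (Block.trivChar G) = 1 := by
    have := hd (Block.trivChar G); simp only [Block.trivChar_coe] at this; exact_mod_cast this.symm
  have hQ1 : 1 ≤ Q := by
    rw [hQ]
    refine le_trans ?_ (Finset.single_le_sum (fun χ _ => sq_nonneg (z χ)) htriv)
    rw [hzt, one_pow]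
  have hQN : (N : ℤ) ≤ Q := Int.le_of_dvd (by omega) hdvd
  -- the estimate
  have hnt : N * n (Block.trivChar G) = N := by
    have h1 := hn (Block.trivChar G)
    simp [Block.trivChar_coe, hA] at h1
    rw [← Fintype.card_subtype, ← Nat.card_eq_fintype_card] at h1
    exact_mod_cast h1.symm
  have hR : (k : ℝ) * Q ≤ (N : ℝ) + 2 * ((Q : ℝ) - 1) := by
    have h1 : ∑ χ ∈ B.toFinset, (z χ : ℝ) ^ 2 * ((N : ℝ) * n χ) / (d χ : ℝ) = (k : ℝ) * Q := by
      have := hid
      apply_fun Complex.re at this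
      rw [Complex.re_sum] at this
      simp only [← Complex.ofReal_natCast, ← Complex.ofReal_intCast, ← Complex.ofReal_pow,
        ← Complex.ofReal_mul, ← Complex.ofReal_div, Complex.ofReal_re] at this
      exact this
    rw [← h1, ← Finset.add_sum_erase _ _ htriv, hQ]
    push_cast
    rw [← Finset.add_sum_erase _ _ htriv, hzt, hdt]
    have h2 : (N : ℝ) * n (Block.trivChar G) = N := by exact_mod_cast hnt
    rw [h2]
    simp only [Int.cast_one, one_pow, one_mul, Nat.cast_one, div_one, add_sub_cancel_left,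
      Finset.mul_sum]
    refine add_le_add le_rfl (Finset.sum_le_sum fun χ hχ => ?_)
    obtain ⟨hne, hmem⟩ := Finset.mem_erase.1 hχ
    obtain ⟨m', -, -, -, hb⟩ := hper χ hmem
    have hb' : (N : ℝ) * n χ ≤ 2 * d χ := by
      exact_mod_cast hb fun e => hne (Subtype.ext e)
    rw [div_le_iff₀ (by exact_mod_cast hd0 χ : (0 : ℝ) < d χ)]
    calc (z χ : ℝ) ^ 2 * ((N : ℝ) * n χ) ≤ (z χ : ℝ) ^ 2 * (2 * d χ) :=
          mul_le_mul_of_nonneg_left hb' (sq_nonneg _)
      _ = 2 * (z χ : ℝ) ^ 2 * d χ := by ring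
  have hkR : (3 : ℝ) ≤ k := by exact_mod_cast hk3
  have hQR : (N : ℝ) ≤ Q := by exact_mod_cast hQN
  have hQ1R : (1 : ℝ) ≤ Q := by exact_mod_cast hQ1
  nlinarith [mul_le_mul_of_nonneg_right hkR (show (0 : ℝ) ≤ Q by linarith)]

end Blocks

end Cfsg.Lib.Local.OddSplit
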