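import Cfsg.Agent.Lib.Local.OddSplit.Count
import Cfsg.Agent.Lib.ZStar.Fusion
import Cfsg.Agent.S0942

/-!
`G = N(H) O(G)` for an abelian 2-subgroup `H` whose conjugates lie in `H O` with `O` of odd order.
-/

set_option autoImplicit false
set_option linter.unusedSectionVars false

namespace Cfsg.Lib.Local.OddSplit

open Subgroup Cfsg

universe u

/-- The inductive hypothesis. -/
def Below (n : ℕ) : Prop :=
  ∀ (G : Type u) [Group G] [Finite G] (H : Subgroup G), Nat.card G < n → Split H →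
    IsPGroup 2 H → (∀ x ∈ H, ∀ y ∈ H, x * y = y * x) →
    normalizer (H : Set G) ⊔ oddCore G = ⊤

variable {G : Type u} [Group G] [Finite G] {H : Subgroup G}

theorem normal_of_sup_eq_top (h : normalizer (H : Set G) ⊔ oddCore G = ⊤) :
    (H ⊔ oddCore G).Normal := by
  refine normalizer_eq_top_iff.1 (eq_top_iff.2 (h ▸ sup_le ?_ ?_))
  · intro n hn
    rw [Core.mem_normalizer_iff_map_conj, Subgroup.map_sup, Core.map_conj_eq_of_mem_normalizer hn,
      Core.map_conj_eq_of_mem_normalizer (normalizer_eq_top (oddCore G) ▸ mem_top n)]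
  · exact le_sup_right.trans le_normalizer

theorem oddCore_eq_bot_of_normal (hO : oddCore G = ⊥) (L : Subgroup G) [L.Normal] :
    oddCore L = ⊥ := by
  have h1 : ((oddCore L).map L.subtype).Normal := ConjAct.normal_of_characteristic_of_normal
  have h2 : (oddCore L).map L.subtype ≤ oddCore G :=
    ZStar.le_oddCore h1
      (by rw [card_map_of_injective L.subtype_injective]; exact ZStar.odd_card_oddCore)
  rwa [hO, le_bot_iff, map_eq_bot_iff_of_injective _ L.subtype_injective] at h2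

variable (ih : Below.{u} (Nat.card G)) (hs : Split H) (hH : IsPGroup 2 H)
  (hab : ∀ x ∈ H, ∀ y ∈ H, x * y = y * x)
include ih hs hH hab

/-- The case of a nontrivial odd core. -/
theorem sup_eq_top_of_oddCore_ne_bot (hO : oddCore G ≠ ⊥) :
    normalizer (H : Set G) ⊔ oddCore G = ⊤ := by
  set π := QuotientGroup.mk' (oddCore G)
  have h1 := ih (G ⧸ oddCore G) (H.map π) (Core.card_quotient_lt hO)
    (split_map hs hH π (QuotientGroup.mk'_surjective _)) (hH.map π) (by
      rintro _ ⟨x, hx, rfl⟩ _ ⟨y, hy, rfl⟩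
      rw [← map_mul, ← map_mul, hab x hx y hy])
  have h2 : oddCore (G ⧸ oddCore G) = ⊥ := Core.pPrimeCore_quotient_eq_bot
  rw [h2, sup_bot_eq, normalizer_eq_top_iff] at h1
  have hN : H ≤ normalizer ((oddCore G : Subgroup G) : Set G) := by
    rw [normalizer_eq_top]; exact le_top
  refine eq_top_iff.2 fun g _ => ?_
  obtain ⟨o, ho, hmem⟩ := exists_conj hH ZStar.odd_card_oddCore hN
    (P := H.map (MulAut.conj g).toMonoidHom) (hH.map _) (by
      rintro _ ⟨x, hx, rfl⟩
      have h3 : π (g * x * g⁻¹) ∈ H.map π := by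
        rw [map_mul, map_mul, map_inv]
        exact h1.conj_mem _ ⟨x, hx, rfl⟩ _
      rw [← mem_comap, comap_map_eq, QuotientGroup.ker_mk'] at h3
      exact h3)
  have hn : o⁻¹ * g ∈ normalizer (H : Set G) := mem_normalizer_of_conj fun x hx => by
    have := hmem _ ⟨x, hx, rfl⟩
    rwa [show o⁻¹ * g * x * (o⁻¹ * g)⁻¹ = o⁻¹ * (g * x * g⁻¹) * o by group]
  have h4 := mul_mem (mem_sup_right (S := normalizer (H : Set G)) ho)
    (mem_sup_left (T := oddCore G) hn)
  rwa [mul_inv_cancel_left] at h4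

/-- A nontrivial central element in `H`. -/
theorem normal_of_central (hO : oddCore G = ⊥) {z : G} (hz : z ∈ H) (hz1 : z ≠ 1)
    (hzc : z ∈ center G) : H.Normal := by
  set W := zpowers z with hW
  have hWH : W ≤ H := zpowers_le.2 hz
  have hWc : W ≤ center G := zpowers_le.2 hzc
  haveI hWn : W.Normal := ⟨fun x hx k => by
    rwa [mem_center_iff.1 (hWc hx) k, mul_inv_cancel_right]⟩
  have hWne : W ≠ ⊥ := fun e => hz1 (zpowers_eq_bot.1 e)
  set π := QuotientGroup.mk' W
  have h1 := ih (G ⧸ W) (H.map π) (Core.card_quotient_lt hWne)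
    (split_map hs hH π (QuotientGroup.mk'_surjective _)) (hH.map π) (by
      rintro _ ⟨x, hx, rfl⟩ _ ⟨y, hy, rfl⟩
      rw [← map_mul, ← map_mul, hab x hx y hy])
  have h2 : oddCore (G ⧸ W) = ⊥ := by
    have h := congrArg (Subgroup.map π) (ZStar.comap_oddCore_eq hO W hWc (hH.to_le hWH))
    rwa [map_comap_eq_self_of_surjective (QuotientGroup.mk'_surjective _),
      (Subgroup.map_eq_bot_iff W).2 (QuotientGroup.ker_mk' W).ge] at h
  rw [h2, sup_bot_eq, normalizer_eq_top_iff] at h1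
  have h3 := h1.comap π
  rwa [comap_map_eq, QuotientGroup.ker_mk', sup_eq_left.2 hWH] at h3

/-- In a proper normal subgroup the intersection with `H` lies in the 2-core. -/
theorem inf_le_pCore (hO : oddCore G = ⊥) (L : Subgroup G) [hLn : L.Normal] (hL : L ≠ ⊤) :
    H ⊓ L ≤ pCore 2 G := by
  have hp : IsPGroup 2 (H.subgroupOf L) := hH.comap_subtype
  have h1 := ih L (H.subgroupOf L) (Core.lt_card_of_ne_top hL)
    (split_subgroupOf hs hH L fun o h _ hmem => by
      have := hLn.conj_mem _ hmem o⁻¹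
      rwa [show o⁻¹ * (o * h * o⁻¹) * o⁻¹⁻¹ = h by group] at this)
    hp (fun x hx y hy => Subtype.ext (hab x hx y hy))
  rw [oddCore_eq_bot_of_normal hO L, sup_bot_eq, normalizer_eq_top_iff] at h1
  intro x hx
  exact Core.pCore_map_le_of_isSubnormal (Normal.isSubnormal hLn)
    ⟨⟨x, hx.2⟩, Core.le_pCore' h1 hp hx.1, rfl⟩

/-- The proper normal subgroups meet `H` trivially. -/
theorem inf_eq_bot_of_not_normal (hO : oddCore G = ⊥) (hHn : ¬ H.Normal) (L : Subgroup G)
    [L.Normal] (hL : L ≠ ⊤) : H ⊓ L = ⊥ := by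
  haveI : Fact (Nat.Prime 2) := ⟨Nat.prime_two⟩
  rw [eq_bot_iff_forall]
  by_contra hne
  push Not at hne
  obtain ⟨x, hx, hx1⟩ := hne
  set Q := pCore 2 G
  set Z := H ⊓ Q with hZ
  have hxZ : x ∈ Z := ⟨hx.1, inf_le_pCore ih hs hH hab hO L hL hx⟩
  obtain ⟨S, hS⟩ := hH.exists_le_sylow
  haveI hQn : Q.Normal := inferInstance
  haveI hZn : Z.Normal := ⟨fun y hy g => ⟨mem_of_conj_mem hs hH S.2 hS hy.1
    (Core.pCore_le_sylow S (hQn.conj_mem y hy.2 g)), hQn.conj_mem y hy.2 g⟩⟩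
  have hHC : H ≤ centralizer (Z : Set G) := fun h hh => mem_centralizer_iff.2 fun y hy =>
    (hab h hh y (hy : y ∈ Z).1).symm
  by_cases hC : centralizer (Z : Set G) = ⊤
  · refine hHn (normal_of_central ih hs hH hab hO hx.1 hx1 (mem_center_iff.2 fun g => ?_))
    exact (mem_centralizer_iff.1 (hC ▸ mem_top g : g ∈ centralizer (Z : Set G)) x hxZ).symm
  · haveI : (centralizer (Z : Set G)).Normal := by
      refine normalizer_eq_top_iff.1 (eq_top_iff.2 ?_)
      exact (normalizer_eq_top Z).ge.trans (normalizer_le_normalizer_centralizer Z)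
    have h1 := inf_le_pCore ih hs hH hab hO _ hC
    rw [inf_eq_left.2 hHC] at h1
    exact hHn (inf_eq_left.2 h1 ▸ hZn)

/-- Values on products of involutions of different types. -/
theorem valueHyp (hnz : ∀ w ∈ H, w ≠ 1 → w ∉ center G) {M : Ideal AlgInt}
    (hM : IsPModular 2 M) : ValueHyp H hab (principalBlock M G) := by
  haveI : Fact (Nat.Prime 2) := ⟨Nat.prime_two⟩
  intro χ hχ g a ha b hb h hh hne hodd
  set x := g * b * g⁻¹ with hx
  obtain ⟨O, hO, hN, hmem, -⟩ := exists_conj_of_conj hs hH g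
  set K := H ⊔ O with hK
  have hHK : H ≤ K := le_sup_left
  have hOK : O ≤ K := le_sup_right
  have hxK : x ∈ K := hmem b hb.1
  have hxh : x * h ∈ O := mem_of_odd hH hO hN hodd (mul_mem hxK (hHK hh.1))
  have hx2 : x * x = 1 := by
    rw [hx, show g * b * g⁻¹ * (g * b * g⁻¹) = g * (b * b) * g⁻¹ by group, hb.2, mul_one,
      mul_inv_cancel]
  set r := a * x with hr
  set w := a * h with hw
  have hwA : w ∈ omega H hab := mul_mem ha hh
  have hw1 : w ≠ 1 := fun e => hne (by rw [← inv_of_sq hh.2]; exact eq_inv_of_mul_eq_one_left e)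
  have hrK : r ∈ K := mul_mem (hHK ha.1) hxK
  set p2 := Block.pPt 2 r with hp2
  set u := Block.pReg 2 r with hu
  have hzK : ∀ y ∈ zpowers r, y ∈ K := fun y hy => zpowers_le.2 hrK hy
  have huodd : Odd (orderOf u) := by
    rw [← Nat.not_even_iff_odd, even_iff_two_dvd]
    exact Block.not_dvd_orderOf_pReg r
  have huO : u ∈ O := mem_of_odd hH hO hN huodd (hzK _ (Block.pReg_mem_zpowers r))
  obtain ⟨o, ho, h₁, hh₁, he, hO₁⟩ :=
    exists_conj_elem hH hO hN (Block.exists_orderOf_pPt r) (hzK _ (Block.pPt_mem_zpowers r))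
  rw [← hp2] at he hO₁
  have hh1 : h₁ = w := by
    have e1 : r = p2 * u := (Block.pPt_mul_pReg r).symm
    have h2 : r * w⁻¹ ∈ O := by
      rw [hr, hw, show a * x * (a * h)⁻¹ = a * (x * h⁻¹) * a⁻¹ by group, inv_of_sq hh.2]
      exact (mem_normalizer_iff.1 (hN ha.1) _).1 hxh
    have h3 : r * h₁⁻¹ ∈ O := by
      rw [e1, show p2 * u * h₁⁻¹ = p2 * h₁⁻¹ * (h₁ * u * h₁⁻¹) by group]
      exact O.mul_mem hO₁ ((mem_normalizer_iff.1 (hN hh₁) _).1 huO)
    have h4 := O.mul_mem (O.inv_mem h3) h2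
    rw [show (r * h₁⁻¹)⁻¹ * (r * w⁻¹) = h₁ * w⁻¹ by group] at h4
    exact mul_inv_eq_one.1 (eq_one_of_mem hH hO (H.mul_mem hh₁ (H.inv_mem hwA.1)) h4)
  rw [hh1] at he
  -- conjugate back
  set u' := o⁻¹ * u * o with hu'
  set a' := o⁻¹ * a * o with ha'
  have hainv : ∀ y ∈ zpowers r, a * y * a⁻¹ = y⁻¹ := by
    intro y hy
    obtain ⟨i, rfl⟩ := mem_zpowers_iff.1 hy
    rw [← conj_zpow, ← inv_zpow]
    congr 1
    rw [hr, mul_inv_rev, inv_of_sq ha.2, inv_of_sq hx2, ← mul_assoc, ha.2, one_mul]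
  have hp2w : p2 * p2 = 1 := by
    rw [he, show o * w * o⁻¹ * (o * w * o⁻¹) = o * (w * w) * o⁻¹ by group, hwA.2, mul_one,
      mul_inv_cancel]
  set C := centralizer ({w} : Set G) with hC
  have haC : a' ∈ C := by
    have h1 : a * p2 = p2 * a := by
      have := hainv p2 (Block.pPt_mem_zpowers r)
      rw [inv_of_sq hp2w] at this
      exact mul_inv_eq_iff_eq_mul.1 this
    rw [mem_centralizer_singleton_iff, ha']
    rw [he] at h1
    rw [show o⁻¹ * a * o * w = o⁻¹ * (a * (o * w * o⁻¹)) * o by group, h1]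
    group
  have huC : u' ∈ C := by
    have h1 : p2 * u = u * p2 := (Block.pPt_commute_pReg r).eq
    rw [mem_centralizer_singleton_iff, hu']
    rw [he] at h1
    rw [show o⁻¹ * u * o * w = o⁻¹ * (u * (o * w * o⁻¹)) * o by group, ← h1]
    group
  have hHC : H ≤ C := fun y hy => mem_centralizer_singleton_iff.2 (hab y hy w hwA.1)
  have hCne : C ≠ ⊤ := fun e => hnz w hwA.1 hw1 (mem_center_iff.2 fun k =>
    mem_centralizer_singleton_iff.1 (e ▸ mem_top k : k ∈ C))
  have hu'O : u' ∈ O := O.mul_mem (O.mul_mem (O.inv_mem ho) huO) ho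
  have hNC : H ≤ normalizer ((O ⊓ C : Subgroup G) : Set G) := by
    rw [le_normalizer_iff]
    intro y hy k hk
    exact ⟨(mem_normalizer_iff.1 (hN hy) k).1 hk.1,
      C.mul_mem (C.mul_mem (hHC hy) hk.2) (C.inv_mem (hHC hy))⟩
  have ha'K : a' ∈ H ⊔ (O ⊓ C) := by
    obtain ⟨h', hh', o', ho', e⟩ := (Core.mem_sup_of_le_normalizer hN).1
      (show a' ∈ H ⊔ O from mul_mem (mul_mem (hOK (O.inv_mem ho)) (hHK ha.1)) (hOK ho))
    refine e ▸ mul_mem (mem_sup_left hh') (mem_sup_right ⟨ho', ?_⟩)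
    have : o' = h'⁻¹ * a' := by rw [← e]; group
    rw [this]
    exact C.mul_mem (C.inv_mem (hHC hh')) haC
  have ha'2 : ∃ k : ℕ, orderOf a' = 2 ^ k := by
    obtain ⟨k, hk⟩ := exists_pow_orderOf hH ha.1
    refine ⟨k, hk ▸ ?_⟩
    have : MulAut.conj o⁻¹ a = a' := by rw [MulAut.conj_apply, inv_inv]
    rw [← this, MulEquiv.orderOf_eq]
  obtain ⟨o₂, ho₂, h₂, hh₂, he₂, -⟩ :=
    exists_conj_elem hH (hO.of_dvd_nat (card_dvd_of_le inf_le_left)) hNC ha'2 ha'K
  -- induction in the centralizer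
  have h5 := normal_of_sup_eq_top (ih C (H.subgroupOf C) (Core.lt_card_of_ne_top hCne)
    (split_subgroupOf hs hH C fun _ y hy _ => hHC hy) hH.comap_subtype
    (fun y hy z hz => Subtype.ext (hab y hy z hz)))
  set M' := H.subgroupOf C ⊔ oddCore C with hM'
  have haM : (⟨a', haC⟩ : C) ∈ M' := by
    have h6 := h5.conj_mem (⟨h₂, hHC hh₂⟩ : C) (mem_sup_left hh₂) ⟨o₂, ho₂.2⟩
    convert h6 using 1
    exact Subtype.ext he₂
  have hsq : (⟨u', huC⟩ : C) * ⟨u', huC⟩ ∈ M' := by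
    have h6 := mul_mem (h5.conj_mem _ haM (⟨u', huC⟩ : C)) (inv_mem haM)
    convert h6 using 1
    refine Subtype.ext ?_
    show u' * u' = u' * a' * u'⁻¹ * a'⁻¹
    have h7 := hainv u⁻¹ (inv_mem (Block.pReg_mem_zpowers r))
    rw [inv_inv] at h7
    rw [hu', ha', show o⁻¹ * u * o * (o⁻¹ * a * o) * (o⁻¹ * u * o)⁻¹ * (o⁻¹ * a * o)⁻¹ =
      o⁻¹ * (u * (a * u⁻¹ * a⁻¹)) * o by group, h7]
    group
  have hu'odd : Odd (orderOf (⟨u', huC⟩ : C)) := by
    rw [Subgroup.orderOf_mk]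
    exact hO.of_dvd_nat (O.orderOf_dvd_natCard hu'O)
  have huOC : (⟨u', huC⟩ : C) ∈ oddCore C := by
    have hodd2 : Odd (orderOf ((⟨u', huC⟩ : C) * ⟨u', huC⟩)) := by
      rw [← pow_two]
      exact hu'odd.of_dvd_nat (orderOf_pow_dvd 2)
    have h6 := mem_of_odd (G := C) hH.comap_subtype ZStar.odd_card_oddCore
      (by rw [normalizer_eq_top]; exact le_top) hodd2 hsq
    obtain ⟨j, hj⟩ := hu'odd
    have h7 : ((⟨u', huC⟩ : C) * ⟨u', huC⟩) ^ (j + 1) = ⟨u', huC⟩ := by
      rw [← pow_two, ← pow_mul, show 2 * (j + 1) = orderOf (⟨u', huC⟩ : C) + 1 by omega, pow_succ,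
        pow_orderOf_eq_one, one_mul]
    exact h7 ▸ pow_mem h6 _
  have hw2 : ∃ k : ℕ, orderOf w = 2 ^ k := exists_pow_orderOf hH hwA.1
  calc (χ : G → ℂ) (a * x) = (χ : G → ℂ) (o * (w * u') * o⁻¹) := by
        congr 1
        rw [← hr, ← Block.pPt_mul_pReg (p := 2) r, ← hp2, ← hu, he, hu']
        group
    _ = (χ : G → ℂ) (w * u') := χ.2.isCharacter.conj_invariant _ _
    _ = (χ : G → ℂ) w := Cfsg.Agent.S0942.result 2 M hM w hw2 u' ⟨_, huOC, rfl⟩ χ hχ

/-- The inductive step. -/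
theorem normalizer_sup_eq_top : normalizer (H : Set G) ⊔ oddCore G = ⊤ := by
  classical
  haveI := Fintype.ofFinite G
  haveI : Fact (Nat.Prime 2) := ⟨Nat.prime_two⟩
  by_cases hO : oddCore G = ⊥
  swap
  · exact sup_eq_top_of_oddCore_ne_bot ih hs hH hab hO
  rw [hO, sup_bot_eq, normalizer_eq_top_iff]
  by_contra hHn
  have hne : H ≠ ⊥ := fun e => hHn (e ▸ inferInstance)
  have hnz : ∀ w ∈ H, w ≠ 1 → w ∉ center G := fun w hw hw1 hc =>
    hHn (normal_of_central ih hs hH hab hO hw hw1 hc)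
  obtain ⟨a, ha, ha1, hodd⟩ := exists_odd_cls hH hab hne
  obtain ⟨M, hM⟩ := Block.exists_isPModular Nat.prime_two
  have hk := card_cls_le_one hs hH hab hM (valueHyp ih hs hH hab hnz hM)
    (fun χ hne b hb hb1 e => by
      haveI := Lib.Char.charKer_normal χ.2.isCharacter
      have h1 := inf_eq_bot_of_not_normal ih hs hH hab hO hHn _ (charKer_ne_top χ.2 hne)
      exact hb1 (mem_bot.1 (h1 ▸ ⟨hb.1, (Lib.Char.mem_charKer _).2 e⟩)))
    ha ha1 hodd
  refine hnz a ha.1 ha1 (ZStar.mem_center_of_isolated hO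
    ⟨Invol.orderOf_eq_two_of ha1 ha.2, fun g hg => ?_⟩)
  obtain ⟨h, hhA, hc, hho, -⟩ := exists_type hs hH hab ha g
  have hha : h = a := Finset.card_le_one.1 hk h ((mem_cls hab).2 ⟨hhA, hc.symm⟩) a
    ((mem_cls hab).2 ⟨ha, IsConj.refl a⟩)
  rw [hha] at hho
  set y := g * a * g⁻¹ with hy
  have hy2 : y * y = 1 := by
    rw [hy, show g * a * g⁻¹ * (g * a * g⁻¹) = g * (a * a) * g⁻¹ by group, ha.2, mul_one,
      mul_inv_cancel]
  have h2 : (y * a) * (y * a) = 1 := by
    rw [hg.mul_mul_mul_comm, hy2, ha.2, one_mul]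
  have h3 : y * a = 1 := by
    by_contra h
    rw [Invol.orderOf_eq_two_of h h2] at hho
    exact absurd hho (by decide)
  rw [eq_inv_of_mul_eq_one_left h3, inv_of_sq ha.2]

omit ih in
/-- An abelian 2-subgroup whose conjugates split off odd complements is normal modulo the odd
core. -/
theorem normalizer_sup_oddCore : normalizer (H : Set G) ⊔ oddCore G = ⊤ := by
  have key : ∀ n, Below.{u} n := by
    intro n
    induction n using Nat.strong_induction_on with
    | _ n ih =>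
      intro K _ _ J hlt hJ hJp hJab
      exact normalizer_sup_eq_top (ih _ hlt) hJ hJp hJab
  exact key (Nat.card G + 1) G H (Nat.lt_succ_self _) hs hH hab

end Cfsg.Lib.Local.OddSplit
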